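import Groth.Agent.H9Assoc.Euler

/-!
Associativity of the Tor Euler characteristic.
-/

set_option autoImplicit false
set_option linter.style.haveILetI false
set_option backward.isDefEq.respectTransparency false
set_option maxHeartbeats 1000000

universe u

open CategoryTheory CategoryTheory.Limits MonoidalCategory HomologicalComplex IsLocalRing Groth.Agent

noncomputable section

namespace Groth.Agent.H9Assoc

open KFlatLib H9Misc.DRingLTensor H9Misc.DRingLTensorCx H9Misc.TorBalance PushAmp H9Diag

variable {A : Type u} [CommRing A]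

/-- A projective resolution as a complex with the homology of the module. -/
theorem res_data {M : ModuleCat.{u} A} (P : ProjectiveResolution M) :
    DRing.TermwiseFlat P.cochainComplex ∧ DRing.VanishesAbove P.cochainComplex 0 ∧
      (∀ i : ℤ, i ≠ 0 → IsZero (P.cochainComplex.homology i)) ∧ Nonempty (P.cochainComplex.homology 0 ≅ M) := by
  refine ⟨fun n => ?_, fun i hi => CochainComplex.isZero_of_isStrictlyLE _ 0 i hi, fun i hi => ?_,
    ⟨isoOfQuasiIsoAt P.π' 0 ≪≫ HomologicalComplex.singleObjHomologySelfIso (ComplexShape.up ℤ) 0 M⟩⟩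
  · have hP : Projective (P.cochainComplex.X n) := inferInstance
    haveI : Module.Projective A (P.cochainComplex.X n) := (IsProjective.iff_projective _).2 hP
    exact Module.Flat.of_projective (R := A) (M := P.cochainComplex.X n)
  · refine IsZero.of_iso ?_ (isoOfQuasiIsoAt P.π' i)
    exact (HomologicalComplex.exactAt_single_obj (ComplexShape.up ℤ) 0 M i hi).isZero_homology

variable [IsRegularLocalRing A]

/-- `E(F ⊗ (G ⊗ L))` as a sum over the `Tor` of the last two. -/
theorem E_eq_sum_tor {M N L : Type u} [AddCommGroup M] [Module A M] [Module.Finite A M] [AddCommGroup N]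
    [Module A N] [Module.Finite A N] [AddCommGroup L] [Module A L] [Module.Finite A L]
    (P : ProjectiveResolution (ModuleCat.of A M)) (Q : ProjectiveResolution (ModuleCat.of A N))
    (h : ∀ i, Primary A M (DRing.Tor A i N L)) :
    E ((T.obj P.cochainComplex).obj ((T.obj Q.cochainComplex).obj (sgl (ModuleCat.of A L)))) =
      ∑ᶠ i : ℕ, (-1 : ℤ) ^ i * IntMult.chi A M (DRing.Tor A i N L) := by
  obtain ⟨hPf, hP0, hPh, ⟨eP⟩⟩ := res_data P
  obtain ⟨hQf, hQ0, hQh, ⟨eQ⟩⟩ := res_data Q
  let C := (T.obj Q.cochainComplex).obj (sgl (ModuleCat.of A L))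
  let D := (maximalIdeal A).spanFinrank
  have hpos : ∀ i : ℤ, 0 < i → IsZero (C.homology i) := fun i hi => by
    refine IsZero.of_iso ?_ ((HomologicalComplex.homologyFunctor _ _ i).mapIso
      ((sglRightIso (ModuleCat.of A L)).app Q.cochainComplex))
    exact ShortComplex.isZero_homology_of_isZero_X₂ _ ((tensorRight (ModuleCat.of A L)).map_isZero (hQ0 i hi))
  have et : ∀ p : ℕ, Nonempty (C.homology (-(p : ℤ)) ≅ ModuleCat.of A (DRing.Tor A p N L)) := fun p => by
    obtain ⟨e⟩ := nonempty_tor_of_flat_res Q.cochainComplex hQf hQ0 hQh (ModuleCat.of A L) p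
    exact ⟨e.symm ≪≫ ((Tor (ModuleCat.{u} A) p).mapIso eQ).app (ModuleCat.of A L)⟩
  have hneg : ∀ j, j < -(D : ℤ) → IsZero (C.homology j) := fun j hj => by
    obtain ⟨p, rfl⟩ : ∃ p : ℕ, j = -(p : ℤ) := ⟨(-j).toNat, by omega⟩
    haveI := subsingleton_tor_of_lt (A := A) N L (i := p) (by omega)
    exact (ModuleCat.isZero_of_subsingleton (ModuleCat.of A (DRing.Tor A p N L))).of_iso (et p).some
  obtain ⟨-, hE⟩ := E_tensor P.cochainComplex hPf hP0 hPh eP (D + 1) (-(D : ℤ)) C
    (fun j hj => hj.elim (hneg j) fun h => hpos j (by omega))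
    (fun j => by
      by_cases hj : j ≤ 0
      · obtain ⟨p, rfl⟩ : ∃ p : ℕ, j = -(p : ℤ) := ⟨(-j).toNat, by omega⟩
        haveI := finite_tor (A := A) L p N
        exact Module.Finite.equiv (et p).some.toLinearEquiv.symm
      · haveI := ModuleCat.subsingleton_of_isZero (hpos j (by omega))
        infer_instance)
    (fun j => by
      by_cases hj : j ≤ 0
      · obtain ⟨p, rfl⟩ : ∃ p : ℕ, j = -(p : ℤ) := ⟨(-j).toNat, by omega⟩
        exact ((h p).symm.mono (LinearMap.annihilator_le_of_surjective (et p).some.toLinearEquiv.symm.toLinearMap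
          (et p).some.toLinearEquiv.symm.surjective)).symm
      · haveI := ModuleCat.subsingleton_of_isZero (hpos j (by omega))
        exact ⟨0, by simp [Module.annihilator_eq_top_iff.2 inferInstance]⟩)
  rw [hE, finsum_eq_sum_of_support_subset _ (s := Finset.range (D + 1)), ← Finset.sum_range_reflect]
  · refine Finset.sum_congr rfl fun i hi => ?_
    have hi' : i ≤ D := Nat.lt_succ_iff.1 (Finset.mem_range.1 hi)
    rw [show -(D : ℤ) + ((D + 1 - 1 - i : ℕ) : ℤ) = -(i : ℤ) by omega,
      E_tensor_one.chi_congr_right (et i).some.toLinearEquiv, Int.negOnePow_neg, Int.coe_negOnePow_natCast]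
  · intro i hi
    simp only [Finset.coe_range, Set.mem_Iio]
    by_contra hlt
    apply hi
    haveI := subsingleton_tor_of_lt (A := A) N L (i := i) (by omega)
    show _ * IntMult.chi A M (DRing.Tor A i N L) = (0 : ℤ)
    rw [H9Samuel.chi_comm, chi_eq_sum, Finset.sum_eq_zero fun k _ => ?_, mul_zero]
    rw [show Module.length A (DRing.Tor A k (DRing.Tor A i N L) M) = 0 from ?_]
    · simp
    · refine Module.length_eq_zero_iff.2 ?_
      rcases k with _ | k
      · obtain ⟨e⟩ := H9Mult.nonempty_tor_zero (ModuleCat.of A (DRing.Tor A i N L)) (ModuleCat.of A M)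
        haveI : Subsingleton (TensorProduct A (DRing.Tor A i N L) M) := inferInstance
        exact e.toEquiv.subsingleton
      · haveI : Module.Flat A (DRing.Tor A i N L) := Module.Flat.of_free
        exact ModuleCat.subsingleton_of_isZero
          (TorBridge.isZero_tor_succ_of_flat (ModuleCat.of A (DRing.Tor A i N L)) (ModuleCat.of A M) k)

/-- Associativity. -/
theorem assoc (M N L : Type u) [AddCommGroup M] [Module A M] [Module.Finite A M] [AddCommGroup N]
    [Module A N] [Module.Finite A N] [AddCommGroup L] [Module A L] [Module.Finite A L]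
    (h₁ : ∀ i, Primary A M (DRing.Tor A i N L)) (h₂ : ∀ i, Primary A L (DRing.Tor A i M N)) :
    (∑ᶠ i : ℕ, (-1 : ℤ) ^ i * IntMult.chi A M (DRing.Tor A i N L)) =
      ∑ᶠ i : ℕ, (-1 : ℤ) ^ i * IntMult.chi A (DRing.Tor A i M N) L := by
  let P := ProjectiveResolution.of (ModuleCat.of A M)
  let Q := ProjectiveResolution.of (ModuleCat.of A N)
  let R := ProjectiveResolution.of (ModuleCat.of A L)
  let F := P.cochainComplex
  let G := Q.cochainComplex
  let H := R.cochainComplex
  haveI := quasiIso_tensorHom_id R.π' (isKF_cochainComplex Q)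
  haveI := quasiIso_tensorHom_id ((T.obj G).map R.π') (isKF_cochainComplex P)
  haveI := quasiIso_tensorHom_id Q.π' (isKF_cochainComplex P)
  haveI := quasiIso_tensorHom_id ((T.obj F).map Q.π') (isKF_cochainComplex R)
  rw [show (∑ᶠ i : ℕ, (-1 : ℤ) ^ i * IntMult.chi A (DRing.Tor A i M N) L) =
      ∑ᶠ i : ℕ, (-1 : ℤ) ^ i * IntMult.chi A L (DRing.Tor A i M N) from
        finsum_congr fun i => by rw [H9Samuel.chi_comm],
    ← E_eq_sum_tor P Q h₁, ← E_eq_sum_tor R P h₂,
    ← E_congr_quasiIso ((T.obj F).map ((T.obj G).map R.π')),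
    ← E_congr_quasiIso ((T.obj H).map ((T.obj F).map Q.π'))]
  let e : (T.obj F).obj ((T.obj G).obj H) ≅ (T.obj H).obj ((T.obj F).obj G) :=
    (α_ F G H).symm ≪≫ (symmIso curriedTensorFlipIso H).app ((T.obj F).obj G)
  exact E_congr fun j => (HomologicalComplex.homologyFunctor _ _ j).mapIso e

end Groth.Agent.H9Assoc
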