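import Groth.Agent.H9Diag.ChiAdd
import Groth.Agent.PushAmp.TorVanish
import Groth.Agent.PushAmp.KoszulTor

/-!
Euler characteristics of tensor products with a resolution.
-/

set_option autoImplicit false
set_option linter.style.haveILetI false
set_option backward.isDefEq.respectTransparency false
set_option maxHeartbeats 1000000

universe u

open CategoryTheory CategoryTheory.Limits MonoidalCategory HomologicalComplex IsLocalRing Groth.Agent

noncomputable section

namespace Groth.Agent.H9Assoc

open KFlatLib H9Misc.DRingLTensor H9Misc.DRingLTensorCx H9Misc.TorBalance PushAmp H9Diag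

variable {A : Type u} [CommRing A]

/-- The signed length in degree `j`. -/
def eterm (C : DRing.Cx A) (j : ℤ) : ℤ := ((j.negOnePow : ℤˣ) : ℤ) * ((Module.length A (C.homology j)).toNat : ℤ)

/-- The Euler characteristic of a complex. -/
def E (C : DRing.Cx A) : ℤ := ∑ᶠ j : ℤ, eterm C j

/-- Homology of finite length, in the window `[lo, hi]`. -/
def Good (C : DRing.Cx A) (lo hi : ℤ) : Prop :=
  (∀ j, Module.length A (C.homology j) ≠ ⊤) ∧ ∀ j, j < lo ∨ hi < j → IsZero (C.homology j)

theorem E_congr {C C' : DRing.Cx A} (e : ∀ j, C.homology j ≅ C'.homology j) : E C = E C' :=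
  finsum_congr fun j => by rw [eterm, eterm, (e j).toLinearEquiv.length_eq]

theorem E_congr_quasiIso {C C' : DRing.Cx A} (f : C ⟶ C') [QuasiIso f] : E C = E C' :=
  E_congr fun j => isoOfQuasiIsoAt f j

theorem Good.of_iso {C C' : DRing.Cx A} {lo hi : ℤ} (h : Good C lo hi) (e : ∀ j, C.homology j ≅ C'.homology j) :
    Good C' lo hi :=
  ⟨fun j => (e j).toLinearEquiv.length_eq ▸ h.1 j, fun j hj => (h.2 j hj).of_iso (e j).symm⟩

theorem Good.mono {C : DRing.Cx A} {lo hi lo' hi' : ℤ} (h : Good C lo hi) (h1 : lo' ≤ lo) (h2 : hi ≤ hi') :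
    Good C lo' hi' :=
  ⟨h.1, fun j hj => h.2 j (by omega)⟩

theorem eterm_eq_zero {C : DRing.Cx A} {j : ℤ} (h : IsZero (C.homology j)) : eterm C j = 0 := by
  haveI := ModuleCat.subsingleton_of_isZero h
  rw [eterm, Module.length_eq_zero_iff.2 inferInstance]
  simp

theorem E_eq_sum {C : DRing.Cx A} {lo hi : ℤ} (h : Good C lo hi) (N : ℕ) (hN : hi - lo ≤ N) :
    E C = ((hi.negOnePow : ℤˣ) : ℤ) *
      ∑ i ∈ Finset.range (N + 1), (-1 : ℤ) ^ i * ((Module.length A (C.homology (hi - i))).toNat : ℤ) := by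
  rw [E, finsum_eq_sum_of_support_subset _ (s := (Finset.range (N + 1)).image fun i : ℕ => hi - i)]
  · rw [Finset.sum_image (fun a _ b _ hab => by simpa using hab), Finset.mul_sum]
    refine Finset.sum_congr rfl fun i _ => ?_
    rw [eterm, Int.negOnePow_sub, Units.val_mul, Int.coe_negOnePow_natCast, mul_assoc]
  · intro j hj
    simp only [Finset.coe_image, Finset.coe_range, Set.mem_image, Set.mem_Iio]
    by_contra hne
    exact hj (eterm_eq_zero (h.2 j (by
      by_contra hc
      push Not at hc
      exact hne ⟨(hi - j).toNat, by omega, by omega⟩)))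

theorem length_range_eq_zero {U V : ModuleCat.{u} A} {a : U ⟶ V} (h : a = 0) :
    (Module.length A (LinearMap.range a.hom)).toNat = 0 := by
  haveI : Subsingleton (LinearMap.range a.hom) := by
    refine subsingleton_of_forall_eq 0 ?_
    rintro ⟨_, x, rfl⟩
    apply Subtype.ext
    subst h
    rfl
  rw [Module.length_eq_zero_iff.2 inferInstance]
  rfl

/-- Additivity of the Euler characteristic. -/
theorem E_add {S : ShortComplex (DRing.Cx A)} (hS : S.ShortExact) {lo hi : ℤ} (h1 : Good S.X₁ lo hi)
    (h3 : Good S.X₃ lo hi) : Good S.X₂ lo hi ∧ E S.X₂ = E S.X₁ + E S.X₃ := by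
  let f : ∀ j, S.X₁.homology j ⟶ S.X₂.homology j := fun j => homologyMap S.f j
  let g : ∀ j, S.X₂.homology j ⟶ S.X₃.homology j := fun j => homologyMap S.g j
  have ex2 : ∀ j, Function.Exact (f j).hom (g j).hom := fun j =>
    (ShortComplex.ShortExact.moduleCat_exact_iff_function_exact _).1 (hS.homology_exact₂ j)
  have good : Good S.X₂ lo hi := by
    refine ⟨fun j => ?_, fun j hj => (hS.homology_exact₂ j).isZero_X₂ ((h1.2 j hj).eq_of_src _ _)
      ((h3.2 j hj).eq_of_tgt _ _)⟩
    rw [length_middle _ _ (ex2 j)]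
    exact WithTop.add_ne_top.2
      ⟨ne_top_of_le_ne_top (h1.1 j) (Module.length_le_of_surjective _ (f j).hom.surjective_rangeRestrict),
        ne_top_of_le_ne_top (h3.1 j) (Module.length_le_of_injective (LinearMap.range (g j).hom).subtype Subtype.val_injective)⟩
  refine ⟨good, ?_⟩
  obtain ⟨N, hN⟩ : ∃ N : ℕ, hi - lo ≤ N := ⟨(hi - lo).toNat, by omega⟩
  rw [E_eq_sum good N hN, E_eq_sum h1 N hN, E_eq_sum h3 N hN, ← mul_add]
  congr 1
  let r : ∀ {U V : ModuleCat.{u} A}, (U ⟶ V) → ℕ := fun a => (Module.length A (LinearMap.range a.hom)).toNat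
  have split : ∀ {U V W : ModuleCat.{u} A} (a : U ⟶ V) (b : V ⟶ W), Function.Exact a.hom b.hom →
      Module.length A V ≠ ⊤ → (Module.length A V).toNat = r a + r b := by
    intro U V W a b hab hV
    rw [length_middle a.hom b.hom hab] at hV ⊢
    exact ENat.toNat_add (WithTop.add_ne_top.1 hV).1 (WithTop.add_ne_top.1 hV).2
  let dl : ∀ i : ℕ, S.X₃.homology (hi - i) ⟶ S.X₁.homology (hi - i + 1) := fun i => hS.δ (hi - i) (hi - i + 1) rfl
  have hz : ∀ i : ℕ, IsZero (S.X₁.homology (hi - i + 1)) ∨ IsZero (S.X₃.homology (hi - i)) → r (dl i) = 0 := by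
    intro i hc
    exact length_range_eq_zero (hc.elim (fun h => h.eq_of_tgt _ _) (fun h => h.eq_of_src _ _))
  refine alt_sum_les N _ _ _ (fun i : ℕ => r (f (hi - i))) (fun i : ℕ => r (g (hi - i))) (fun i => r (dl i))
    ?_ (fun i => split _ _ (ex2 _) (good.1 _)) (fun i => ?_)
    (hz 0 (Or.inl (h1.2 _ (by omega)))) (hz (N + 1) (Or.inr (h3.2 _ (by omega))))
  · intro i
    have key : ∀ j, j + 1 = hi - i → ∀ (k : ℕ), j = hi - k →
        (Module.length A (S.X₁.homology (hi - i))).toNat = r (dl k) + r (f (hi - i)) := by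
      intro j hj k hk
      obtain rfl : k = i + 1 := by omega
      have e : hi - ((i + 1 : ℕ) : ℤ) + 1 = hi - i := by omega
      have gen : ∀ (m : ℤ) (hm : hi - ((i + 1 : ℕ) : ℤ) + 1 = m),
          (Module.length A (S.X₁.homology m)).toNat = r (dl (i + 1)) + r (f m) := by
        rintro m rfl
        exact split (dl (i + 1)) (f _) ((ShortComplex.ShortExact.moduleCat_exact_iff_function_exact _).1
          (hS.homology_exact₁ _ _ rfl)) (h1.1 _)
      exact gen _ e
    exact key _ (show hi - ((i + 1 : ℕ) : ℤ) + 1 = hi - i by omega) (i + 1) rfl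
  · exact split (g (hi - i)) (dl i) ((ShortComplex.ShortExact.moduleCat_exact_iff_function_exact _).1
      (hS.homology_exact₃ _ _ rfl)) (h3.1 _)

theorem isZero_tensor_of_acyclic (F C : DRing.Cx A) (hF : IsKF F) (hC : ∀ i, IsZero (C.homology i)) (j : ℤ) :
    IsZero (((T.obj F).obj C).homology j) :=
  (hF C hC j).of_iso ((HomologicalComplex.homologyFunctor _ _ j).mapIso
    ((symmIso curriedTensorFlipIso F).symm.app C))

variable [IsRegularLocalRing A]

/-- A complex with homology in one degree. -/
theorem E_tensor_one {M : Type u} [AddCommGroup M] [Module A M] [Module.Finite A M] (F : DRing.Cx A)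
    (hF : DRing.TermwiseFlat F) (hF0 : DRing.VanishesAbove F 0) (hFh : ∀ i : ℤ, i ≠ 0 → IsZero (F.homology i))
    (eF : F.homology 0 ≅ ModuleCat.of A M) (X : DRing.Cx A) (c : ℤ) [X.IsLE c] [X.IsGE c]
    (hfin : Module.Finite A (X.homology c)) (hP : Primary A M (X.homology c)) :
    Good ((T.obj F).obj X) (c - (maximalIdeal A).spanFinrank) c ∧
      E ((T.obj F).obj X) = ((c.negOnePow : ℤˣ) : ℤ) * IntMult.chi A M (X.homology c) := by
  obtain ⟨N, ⟨eN⟩⟩ := CochainComplex.exists_iso_single ((X.truncLE c).truncGE c) c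
  let π : X.truncLE c ⟶ (HomologicalComplex.single _ (ComplexShape.up ℤ) c).obj N := (X.truncLE c).πTruncGE c ≫ eN.hom
  haveI : QuasiIso (X.ιTruncLE c) := inferInstance
  haveI hgeX : CochainComplex.IsGE (X.truncLE c) c := (CochainComplex.isGE_iff _ _).2 fun i hi => by
    rw [exactAt_iff_isZero_homology]
    exact (X.isZero_of_isGE c i hi).of_iso (isoOfQuasiIsoAt (X.ιTruncLE c) i)
  have hK := kFlat_of_termwiseFlat hF hF0
  haveI : QuasiIso π := by
    haveI : QuasiIso ((X.truncLE c).πTruncGE c) := inferInstance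
    exact quasiIso_comp _ _
  haveI := quasiIso_tensorHom_id π hK
  haveI := quasiIso_tensorHom_id (X.ιTruncLE c) hK
  let eX : X.homology c ≅ N := (isoOfQuasiIsoAt (X.ιTruncLE c) c).symm ≪≫ isoOfQuasiIsoAt π c ≪≫
    HomologicalComplex.singleObjHomologySelfIso _ c N
  haveI : Module.Finite A N := Module.Finite.equiv eX.toLinearEquiv
  have hPN : Primary A M N :=
    (hP.symm.mono (LinearMap.annihilator_le_of_surjective eX.toLinearEquiv.toLinearMap eX.toLinearEquiv.surjective)).symm
  let es := ((CochainComplex.singleFunctors (ModuleCat.{u} A)).shiftIso (-c) c 0 (by omega)).app N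
  let e : ∀ j, ((T.obj F).obj X).homology j ≅ (HTor.tensorCx F (sgl N)).homology (j - c) := fun j =>
    (isoOfQuasiIsoAt ((T.obj F).map (X.ιTruncLE c)) j).symm ≪≫ isoOfQuasiIsoAt ((T.obj F).map π) j ≪≫
      (HomologicalComplex.homologyFunctor _ _ j).mapIso ((T.obj F).mapIso es.symm ≪≫
        CochainComplex.mapBifunctorShift₂Iso F _ (curriedTensor (ModuleCat.{u} A)) (-c)) ≪≫
      (CochainComplex.ShiftSequence.shiftIso _ (-c) j (j - c) (by omega)).app _
  have hpos : ∀ i : ℤ, 0 < i → IsZero ((HTor.tensorCx F (sgl N)).homology i) := fun i hi => by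
    refine IsZero.of_iso ?_ ((HomologicalComplex.homologyFunctor _ _ i).mapIso ((sglRightIso N).app F))
    exact ShortComplex.isZero_homology_of_isZero_X₂ _ ((tensorRight N).map_isZero (hF0 i hi))
  have etor : ∀ p : ℕ, Nonempty (((T.obj F).obj X).homology (c - p) ≅ ModuleCat.of A (DRing.Tor A p M N)) := fun p => by
    obtain ⟨et⟩ := nonempty_tor_of_flat_res F hF hF0 hFh N p
    exact ⟨e (c - p) ≪≫ eqToIso (by rw [show c - (p : ℤ) - c = -(p : ℤ) by omega]) ≪≫ et.symm ≪≫
      ((Tor (ModuleCat.{u} A) p).mapIso eF).app N⟩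
  have good : Good ((T.obj F).obj X) (c - (maximalIdeal A).spanFinrank) c := by
    refine ⟨fun j => ?_, fun j hj => ?_⟩
    · by_cases hjc : j ≤ c
      · obtain ⟨p, rfl⟩ : ∃ p : ℕ, j = c - p := ⟨(c - j).toNat, by omega⟩
        obtain ⟨et⟩ := etor p
        rw [et.toLinearEquiv.length_eq]
        exact length_tor_ne_top hPN p
      · haveI := ModuleCat.subsingleton_of_isZero ((hpos (j - c) (by omega)).of_iso (e j))
        rw [Module.length_eq_zero_iff.2 inferInstance]
        exact ENat.zero_ne_top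
    · rcases hj with hj | hj
      · obtain ⟨p, rfl⟩ : ∃ p : ℕ, j = c - p := ⟨(c - j).toNat, by omega⟩
        obtain ⟨et⟩ := etor p
        haveI := subsingleton_tor_of_lt (A := A) M N (i := p) (by omega)
        exact (ModuleCat.isZero_of_subsingleton (ModuleCat.of A (DRing.Tor A p M N))).of_iso et
      · exact (hpos (j - c) (by omega)).of_iso (e j)
  refine ⟨good, ?_⟩
  rw [E_eq_sum good (maximalIdeal A).spanFinrank (by omega), chi_congr_right eX.toLinearEquiv, chi_eq_sum]
  congr 1
  refine Finset.sum_congr rfl fun p _ => ?_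
  obtain ⟨et⟩ := etor p
  rw [et.toLinearEquiv.length_eq]
where
  chi_congr_right {M N N' : Type u} [AddCommGroup M] [Module A M] [AddCommGroup N] [Module A N] [AddCommGroup N']
      [Module A N'] (e : N ≃ₗ[A] N') : IntMult.chi A M N = IntMult.chi A M N' := by
    rw [H9Samuel.chi_comm, chi_congr_left e, H9Samuel.chi_comm]

/-- Euler characteristic of the tensor product of a resolution with a complex. -/
theorem E_tensor {M : Type u} [AddCommGroup M] [Module A M] [Module.Finite A M] (F : DRing.Cx A)
    (hF : DRing.TermwiseFlat F) (hF0 : DRing.VanishesAbove F 0) (hFh : ∀ i : ℤ, i ≠ 0 → IsZero (F.homology i))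
    (eF : F.homology 0 ≅ ModuleCat.of A M) : ∀ (k : ℕ) (lo : ℤ) (C : DRing.Cx A),
    (∀ j, j < lo ∨ lo + k ≤ j → IsZero (C.homology j)) → (∀ j, Module.Finite A (C.homology j)) →
    (∀ j, Primary A M (C.homology j)) →
    Good ((T.obj F).obj C) (lo - (maximalIdeal A).spanFinrank) (lo + k) ∧
      E ((T.obj F).obj C) =
        ∑ i ∈ Finset.range k, (((lo + i).negOnePow : ℤˣ) : ℤ) * IntMult.chi A M (C.homology (lo + i)) := by
  intro k
  induction k with
  | zero =>
    intro lo C hC _ _
    have h0 : ∀ j, IsZero (((T.obj F).obj C).homology j) :=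
      isZero_tensor_of_acyclic F C (kFlat_of_termwiseFlat hF hF0) fun i => hC i (by omega)
    refine ⟨⟨fun j => ?_, fun j _ => h0 j⟩, ?_⟩
    · haveI := ModuleCat.subsingleton_of_isZero (h0 j)
      rw [Module.length_eq_zero_iff.2 inferInstance]
      exact ENat.zero_ne_top
    · rw [Finset.range_zero, Finset.sum_empty]
      exact finsum_eq_zero_of_forall_eq_zero fun j => eterm_eq_zero (h0 j)
  | succ k ih =>
    intro lo C hC hfin hP
    let e := ComplexShape.embeddingUpIntLE lo
    let S := HomologicalComplex.shortComplexTruncLE C e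
    have hS : S.ShortExact := HomologicalComplex.shortComplexTruncLE_shortExact C e
    have hFS : (S.map (T.obj F)).ShortExact := shortExact₂ _ F S fun p q => by
      haveI : Module.Flat A (F.X p) := hF p
      exact ((HomologicalComplex.shortExact_iff_degreewise_shortExact S).1 hS q).map_of_exact _
    have hin : ∀ i, i ≤ lo → ∃ j, e.f j = i := fun i hi =>
      ⟨(lo - i).toNat, by simp [e, ComplexShape.embeddingUpIntLE]; omega⟩
    have hout : ∀ i, lo < i → ∀ j, e.f j ≠ i := fun i hi j hj => by
      simp [e, ComplexShape.embeddingUpIntLE] at hj; omega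
    haveI : CochainComplex.IsLE S.X₁ lo := (CochainComplex.isLE_iff _ _).2 fun i hi =>
      (HomologicalComplex.truncLE C e).exactAt_of_isSupported e i (hout i hi)
    haveI : CochainComplex.IsGE S.X₁ lo := (CochainComplex.isGE_iff _ _).2 fun i hi => by
      obtain ⟨j, hj⟩ := hin i hi.le
      haveI := HomologicalComplex.quasiIsoAt_ιTruncLE C (e := e) hj
      rw [exactAt_iff_isZero_homology]
      exact (hC i (Or.inl hi)).of_iso (isoOfQuasiIsoAt (HomologicalComplex.ιTruncLE C e) i)
    obtain ⟨j0, hj0⟩ := hin lo le_rfl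
    haveI := HomologicalComplex.quasiIsoAt_ιTruncLE C (e := e) hj0
    let e1 : C.homology lo ≅ S.X₁.homology lo := (isoOfQuasiIsoAt (HomologicalComplex.ιTruncLE C e) lo).symm
    haveI : Module.Finite A (S.X₁.homology lo) := by
      haveI := hfin lo
      exact Module.Finite.equiv e1.toLinearEquiv
    obtain ⟨g1, E1⟩ := E_tensor_one F hF hF0 hFh eF S.X₁ lo inferInstance
      ((hP lo).symm.mono (LinearMap.annihilator_le_of_surjective e1.toLinearEquiv.toLinearMap e1.toLinearEquiv.surjective)).symm
    have h3z : ∀ i, i ≤ lo → IsZero (S.X₃.homology i) := fun i hi => by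
      obtain ⟨j, hj⟩ := hin i hi
      rw [← exactAt_iff_isZero_homology]
      exact hj ▸ (HomologicalComplex.shortComplexTruncLE_X₃_isSupportedOutside C e).exactAt j
    have e3 : ∀ i, lo < i → Nonempty (C.homology i ≅ S.X₃.homology i) := fun i hi => by
      haveI := HomologicalComplex.quasiIsoAt_shortComplexTruncLE_g C e i (hout i hi)
      exact ⟨isoOfQuasiIsoAt S.g i⟩
    obtain ⟨g3, E3⟩ := ih (lo + 1) S.X₃ (fun j hj => by
        by_cases hjl : j ≤ lo
        · exact h3z j hjl
        · exact (hC j (by omega)).of_iso (e3 j (by omega)).some.symm)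
      (fun j => by
        by_cases hjl : j ≤ lo
        · haveI := ModuleCat.subsingleton_of_isZero (h3z j hjl)
          infer_instance
        · haveI := hfin j
          exact Module.Finite.equiv (e3 j (by omega)).some.toLinearEquiv)
      (fun j => by
        by_cases hjl : j ≤ lo
        · haveI := ModuleCat.subsingleton_of_isZero (h3z j hjl)
          exact ⟨0, by simp [Module.annihilator_eq_top_iff.2 inferInstance]⟩
        · exact ((hP j).symm.mono (LinearMap.annihilator_le_of_surjective (e3 j (by omega)).some.toLinearEquiv.toLinearMap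
            (e3 j (by omega)).some.toLinearEquiv.surjective)).symm)
    obtain ⟨g2, E2⟩ := E_add hFS (g1.mono (lo' := lo - (maximalIdeal A).spanFinrank) (hi' := lo + (k + 1 : ℕ))
      le_rfl (by omega)) (g3.mono (by omega) (by omega))
    refine ⟨g2, ?_⟩
    show E (S.map (T.obj F)).X₂ = _
    rw [E2]
    show E ((T.obj F).obj S.X₁) + E ((T.obj F).obj S.X₃) = _
    rw [E1, E3, Finset.sum_range_succ', add_comm]
    congr 1
    · refine Finset.sum_congr rfl fun i _ => ?_
      obtain ⟨ei⟩ := e3 (lo + 1 + i) (by omega)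
      rw [show lo + ((i + 1 : ℕ) : ℤ) = lo + 1 + i by omega, E_tensor_one.chi_congr_right ei.toLinearEquiv]
    · rw [Nat.cast_zero, add_zero, E_tensor_one.chi_congr_right e1.toLinearEquiv]

end Groth.Agent.H9Assoc
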