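import Groth.Agent.H9Diag.FlatBC
import Groth.Agent.H9Diag.Global

/-!
The Tor multiplicity at a generalisation, in terms of the stalk.
-/

set_option autoImplicit false
set_option linter.style.haveILetI false
set_option backward.isDefEq.respectTransparency false
set_option backward.isDefEq.respectTransparency.types false
set_option maxHeartbeats 1000000

universe u

open AlgebraicGeometry CategoryTheory TensorProduct Groth.Agent Groth.Agent.CDiv6 Groth.Agent.H9Mult

noncomputable section

namespace Groth.Agent.H9Assoc

open H9Diag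

theorem length_of_isLocalizedModule {A B : Type u} [CommRing A] [CommRing B] [Algebra A B] (p : Ideal A) [p.IsPrime]
    [IsLocalization.AtPrime B p] {T N : Type u} [AddCommGroup T] [Module A T] [AddCommGroup N] [Module A N]
    [Module B N] [IsScalarTower A B N] (l : T →ₗ[A] N) [IsLocalizedModule p.primeCompl l] :
    Module.length B N = Module.length (Localization.AtPrime p) (LocalizedModule p.primeCompl T) := by
  let e := IsLocalizedModule.iso p.primeCompl l
  let σ : Localization.AtPrime p ≃ₐ[A] B := IsLocalization.algEquiv p.primeCompl _ _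
  let φ : LocalizedModule p.primeCompl T →ₛₗ[σ.toRingEquiv.toRingHom] N :=
    { toFun := e
      map_add' := map_add e
      map_smul' := fun c x => by
        show e (c • x) = σ c • e x
        obtain ⟨⟨a, s⟩, hc⟩ := IsLocalization.surj p.primeCompl c
        have hu : IsUnit (σ (algebraMap _ _ (s : A))) := (IsLocalization.map_units _ s).map σ
        refine hu.smul_left_cancel.1 ?_
        rw [← mul_smul, ← map_mul, mul_comm, hc, σ.commutes, σ.commutes, algebraMap_smul, algebraMap_smul, ← map_smul,
          ← map_smul, ← algebraMap_smul (Localization.AtPrime p) (s : A), smul_smul,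
          mul_comm, hc, algebraMap_smul] }
  exact (length_eq_of_semilinear φ e.bijective fun s n => ⟨σ.symm s, by
    show s • n = σ (σ.symm s) • n
    rw [σ.apply_symm_apply]⟩).symm

variable {A B : Type u} [CommRing A] [IsRegularLocalRing A] [CommRing B] [Algebra A B]

/-- Localisation of the Euler characteristic of two cyclic modules. -/
theorem chi_localization (p : PrimeSpectrum A) [IsLocalization.AtPrime B p.asIdeal] (I J : Ideal A) :
    IntMult.chi B (B ⧸ I.map (algebraMap A B)) (B ⧸ J.map (algebraMap A B)) =
      ∑ i ∈ Finset.range ((IsLocalRing.maximalIdeal A).spanFinrank + 1),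
        (-1 : ℤ) ^ i * (lenAt p (DRing.Tor A i (A ⧸ I) (A ⧸ J)) : ℤ) := by
  haveI : Module.Flat A B := IsLocalization.flat B p.asIdeal.primeCompl
  have key : ∀ i, Module.length B (DRing.Tor B i (B ⊗[A] (A ⧸ I)) (B ⊗[A] (A ⧸ J))) =
      Module.length (Localization.AtPrime p.asIdeal) (LocalizedModule p.asIdeal.primeCompl (DRing.Tor A i (A ⧸ I) (A ⧸ J))) := by
    intro i
    obtain ⟨e⟩ := nonempty_tor_baseChange A B (A ⧸ I) (A ⧸ J) i
    rw [e.length_eq]
    exact length_of_isLocalizedModule p.asIdeal (TensorProduct.mk A B (DRing.Tor A i (A ⧸ I) (A ⧸ J)) 1)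
  obtain ⟨eI⟩ := nonempty_baseChange_quot (R := A) (R' := B) I
  obtain ⟨eJ⟩ := nonempty_baseChange_quot (R := A) (R' := B) J
  rw [← chi_congr_left eI, H9Samuel.chi_comm, ← chi_congr_left eJ, H9Samuel.chi_comm, IntMult.chi,
    finsum_eq_sum_of_support_subset _ (s := Finset.range ((IsLocalRing.maximalIdeal A).spanFinrank + 1))]
  · exact Finset.sum_congr rfl fun i _ => by rw [key i]; rfl
  · intro i hi
    simp only [Finset.coe_range, Set.mem_Iio]
    by_contra hlt
    apply hi
    haveI := subsingleton_tor_of_lt (A := A) (A ⧸ I) (A ⧸ J) (i := i) (by omega)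
    show _ * ((Module.length B (DRing.Tor B i (B ⊗[A] (A ⧸ I)) (B ⊗[A] (A ⧸ J)))).toNat : ℤ) = (0 : ℤ)
    rw [key i]
    haveI : Subsingleton (LocalizedModule p.asIdeal.primeCompl (DRing.Tor A i (A ⧸ I) (A ⧸ J))) := ⟨fun a b => by
      induction a using LocalizedModule.induction_on with
      | _ m s =>
        induction b using LocalizedModule.induction_on with
        | _ m' s' => exact LocalizedModule.mk_eq.2 ⟨1, Subsingleton.elim _ _⟩⟩
    rw [Module.length_eq_zero]
    simp

end Groth.Agent.H9Assoc
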