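import Groth.Agent.H9Assoc.Assoc
import Groth.Agent.H9Assoc.Local

/-!
Triple intersection products.
-/

set_option autoImplicit false
set_option linter.style.haveILetI false
set_option backward.isDefEq.respectTransparency false
set_option backward.isDefEq.respectTransparency.types false
set_option maxHeartbeats 1000000

universe u

open AlgebraicGeometry CategoryTheory TopologicalSpace IsLocalRing Groth.Agent Groth.Agent.CDiv6 Groth.Agent.H9Mult

noncomputable section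

namespace Groth.Agent.H9Assoc

open H9Diag

theorem interProd_comm {X : Scheme.{u}} (δ : X → ℤ) (n : ℤ) (α β : X → ℤ) :
    IntMult.interProd δ n α β = IntMult.interProd δ n β α := by
  funext ζ
  let sw : {p : X × X // p.1 ⤳ ζ ∧ p.2 ⤳ ζ ∧ δ p.1 + δ p.2 - n = δ ζ} ≃
      {p : X × X // p.1 ⤳ ζ ∧ p.2 ⤳ ζ ∧ δ p.1 + δ p.2 - n = δ ζ} :=
    (Equiv.prodComm X X).subtypeEquiv fun p =>
      ⟨fun h => ⟨h.2.1, h.1, (by rw [add_comm]; exact h.2.2)⟩, fun h => ⟨h.2.1, h.1, (by rw [add_comm]; exact h.2.2)⟩⟩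
  refine (finsum_comp_equiv sw).symm.trans (finsum_congr fun p => ?_)
  show α p.1.2 * β p.1.1 * IntMult.mult (IntMult.ptIdeal p.1.2) (IntMult.ptIdeal p.1.1) ζ =
    β p.1.1 * α p.1.2 * IntMult.mult (IntMult.ptIdeal p.1.1) (IntMult.ptIdeal p.1.2) ζ
  rw [IntMult.mult, IntMult.mult, H9Samuel.chi_comm, mul_comm (α _)]

/-- The product of the classes of two points. -/
theorem interProd_points {X : Scheme.{u}} (δ : X → ℤ) (n : ℤ) (ξV ξW η : X) :
    (IntMult.interProd δ n (Set.indicator {ξV} 1) (Set.indicator {ξW} 1) η ≠ 0 →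
      ξV ⤳ η ∧ ξW ⤳ η ∧ δ η = δ ξV + δ ξW - n) ∧
    (ξV ⤳ η → ξW ⤳ η → δ η = δ ξV + δ ξW - n →
      IntMult.interProd δ n (Set.indicator {ξV} 1) (Set.indicator {ξW} 1) η =
        IntMult.mult (IntMult.ptIdeal ξV) (IntMult.ptIdeal ξW) η) := by
  refine ⟨fun h => ?_, fun h1 h2 h3 => ?_⟩
  · by_contra hc
    refine h (finsum_eq_zero_of_forall_eq_zero ?_)
    rintro ⟨⟨a, b⟩, ha, hb, hd⟩
    by_contra h0
    simp only [mul_eq_zero, not_or] at h0
    obtain rfl : a = ξV := Set.eq_of_mem_singleton (Set.mem_of_indicator_ne_zero h0.1.1)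
    obtain rfl : b = ξW := Set.eq_of_mem_singleton (Set.mem_of_indicator_ne_zero h0.1.2)
    exact hc ⟨ha, hb, hd.symm⟩
  · rw [IntMult.interProd, finsum_eq_single _ ⟨(ξV, ξW), h1, h2, h3.symm⟩]
    · simp
    · rintro ⟨⟨a, b⟩, ha, hb, hd⟩ hne
      by_contra h0
      simp only [ne_eq, mul_eq_zero, not_or] at h0
      obtain rfl : a = ξV := Set.eq_of_mem_singleton (Set.mem_of_indicator_ne_zero h0.1.1)
      obtain rfl : b = ξW := Set.eq_of_mem_singleton (Set.mem_of_indicator_ne_zero h0.1.2)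
      exact hne rfl

variable {K : Type u} [Field K] {X : Scheme.{u}} (f : X ⟶ Spec (CommRingCat.of K)) [Smooth f] [IsSeparated f]
  [QuasiCompact f] [IsIntegral X] {δ : X → ℤ} (hδ : Cyc.DeltaCompat f δ (fun _ => 0)) {n : ℤ}
  (hn : δ (genericPoint X) = n) {ξU ξV ξW : X}
  (hVW : IntMult.IntersectProperly δ n (Set.indicator {ξV} 1) (Set.indicator {ξW} 1))
  (hUVW : ∀ ζ : X, ξU ⤳ ζ → ξV ⤳ ζ → ξW ⤳ ζ → δ ζ ≤ δ ξU + δ ξV + δ ξW - 2 * n)

omit [IsIntegral X] in
theorem interProd_side_zero {ζ : X}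
    (h : ¬(ξU ⤳ ζ ∧ ξV ⤳ ζ ∧ ξW ⤳ ζ ∧ δ ζ = δ ξU + δ ξV + δ ξW - 2 * n)) :
    IntMult.interProd δ n (Set.indicator {ξU} 1)
      (IntMult.interProd δ n (Set.indicator {ξV} 1) (Set.indicator {ξW} 1)) ζ = 0 := by
  refine finsum_eq_zero_of_forall_eq_zero ?_
  rintro ⟨⟨a, η⟩, ha, hη, hd⟩
  by_contra h0
  simp only [mul_eq_zero, not_or] at h0
  obtain rfl : a = ξU := Set.eq_of_mem_singleton (Set.mem_of_indicator_ne_zero h0.1.1)
  obtain ⟨h1, h2, h3⟩ := (interProd_points δ n ξV ξW η).1 h0.1.2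
  dsimp only at hd hη ha
  exact h ⟨ha, h1.trans hη, h2.trans hη, by omega⟩

include hδ hn in
/-- One side of associativity, with hypotheses only near the point. -/
theorem interProd_side_local {ζ : X} (hU : ξU ⤳ ζ) (hV : ξV ⤳ ζ) (hW : ξW ⤳ ζ)
    (hζ : δ ζ = δ ξU + δ ξV + δ ξW - 2 * n)
    (hvw' : ∀ y, y ⤳ ζ → ξV ⤳ y → ξW ⤳ y → δ y ≤ δ ξV + δ ξW - n)
    (huvw : ∀ y, y ⤳ ζ → ξU ⤳ y → ξV ⤳ y → ξW ⤳ y → δ y ≤ δ ξU + δ ξV + δ ξW - 2 * n) :
    (∀ i, Primary (X.presheaf.stalk ζ) (X.presheaf.stalk ζ ⧸ (primeOf hU).asIdeal)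
      (DRing.Tor (X.presheaf.stalk ζ) i (X.presheaf.stalk ζ ⧸ (primeOf hV).asIdeal)
        (X.presheaf.stalk ζ ⧸ (primeOf hW).asIdeal))) ∧
    IntMult.interProd δ n (Set.indicator {ξU} 1)
      (IntMult.interProd δ n (Set.indicator {ξV} 1) (Set.indicator {ξW} 1)) ζ =
      ∑ᶠ i : ℕ, (-1 : ℤ) ^ i * IntMult.chi (X.presheaf.stalk ζ) (X.presheaf.stalk ζ ⧸ (primeOf hU).asIdeal)
        (DRing.Tor (X.presheaf.stalk ζ) i (X.presheaf.stalk ζ ⧸ (primeOf hV).asIdeal)
          (X.presheaf.stalk ζ ⧸ (primeOf hW).asIdeal)) := by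
  classical
  haveI := FibDim.subsingleton_spec_field K
  haveI : IsLocallyNoetherian X := LocallyOfFiniteType.isLocallyNoetherian f
  haveI : IsRegularLocalRing (X.presheaf.stalk ζ) := GrpSchLib.isRegularLocalRing_stalk_of_smooth f ζ
  let A := X.presheaf.stalk ζ
  let pt : PrimeSpectrum A → X := fun P => X.fromSpecStalk ζ P
  have hpt : ∀ P, pt P ⤳ ζ := fromSpecStalk_specializes
  have hgen : ∀ {y : X} (hy : y ⤳ ζ) (P : PrimeSpectrum A), (primeOf hy).asIdeal ≤ P.asIdeal → y ⤳ pt P := by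
    intro y hy P hle
    refine (H23.StalkPrimes.primeOf_le_iff (hpt P) hy).1 ?_
    rw [primeOf_point]
    exact hle
  obtain ⟨a, ha⟩ : ∃ a : ℕ, (a : ℤ) = δ ξV + δ ξW - n - δ ζ :=
    ⟨(δ ξV + δ ξW - n - δ ζ).toNat, by have := hvw' ζ (specializes_refl ζ) hV hW; omega⟩
  let PV := (primeOf hV).asIdeal
  let PW := (primeOf hW).asIdeal
  let PU := (primeOf hU).asIdeal
  let M : ℕ → Type u := fun i => DRing.Tor A i (A ⧸ PV) (A ⧸ PW)
  have hMsupp : ∀ i (P : PrimeSpectrum A), P ∈ Module.support A (M i) → PV ⊔ PW ≤ P.asIdeal := fun i P hP z hz =>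
    Module.annihilator_le_of_mem_support hP (Module.mem_annihilator.2 fun t =>
      mem_annihilator_tor_of_mem_sup (A := A) (K := ModuleCat.of A (A ⧸ PV)) (X := ModuleCat.of A (A ⧸ PW)) i
        (by
          show z ∈ Module.annihilator A (A ⧸ PV) ⊔ Module.annihilator A (A ⧸ PW)
          rw [Ideal.annihilator_quotient, Ideal.annihilator_quotient]; exact hz) t)
  have hdim : ∀ P : PrimeSpectrum A, ∃ c : ℕ, ringKrullDim (A ⧸ P.asIdeal) = c ∧ (c : ℤ) = δ (pt P) - δ ζ := fun P => by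
    have h := exists_dim_primeOf f hδ (hpt P)
    rwa [primeOf_point] at h
  have hfin : ∀ i, Module.Finite A (M i) := fun i => finite_tor (A := A) (A ⧸ PW) i (A ⧸ PV)
  have hMd : ∀ i, Module.supportDim A (M i) ≤ a := fun i => supportDim_le fun P hP => by
    obtain ⟨k, hk, hk'⟩ := hdim P
    obtain ⟨h1, h2⟩ := sup_le_iff.1 (hMsupp i P hP)
    have := hvw' _ (hpt P) (hgen hV P h1) (hgen hW P h2)
    rw [hk]; exact_mod_cast (by omega : k ≤ a)
  have hPrim : ∀ i, Primary A (M i) (A ⧸ PU) := fun i => by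
    haveI := hfin i
    refine Ideal.exists_pow_le_of_le_radical_of_fg ?_ (IsNoetherian.noetherian _)
    rw [Ideal.radical_eq_sInf]
    refine le_sInf fun p hp => ?_
    haveI := hp.2
    obtain ⟨h1, h2⟩ := sup_le_iff.1 hp.1
    rw [Ideal.annihilator_quotient] at h2
    let P : PrimeSpectrum A := ⟨p, inferInstance⟩
    obtain ⟨hv', hw'⟩ := sup_le_iff.1 (hMsupp i P (Module.mem_support_iff_of_finite.2 h1))
    have hle := huvw _ (hpt P) (hgen hU P h2) (hgen hV P hv') (hgen hW P hw')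
    obtain ⟨k, hk, hk'⟩ := hdim P
    obtain rfl : k = 0 := by omega
    haveI : Nontrivial (A ⧸ p) := Ideal.Quotient.nontrivial_iff.2 hp.2.ne_top
    haveI : IsDomain (A ⧸ p) := (Ideal.Quotient.isDomain_iff_prime p).2 hp.2
    haveI : Ring.KrullDimLE 0 (A ⧸ p) := Ring.krullDimLE_iff.2 (by rw [hk])
    have hm : p.IsMaximal := Ideal.Quotient.maximal_of_isField _ Ring.KrullDimLE.isField_of_isDomain
    exact (IsLocalRing.eq_maximalIdeal hm).ge
  have hzero : ∀ P : PrimeSpectrum A, Primary A (A ⧸ P.asIdeal) (A ⧸ PU) → ringKrullDim (A ⧸ P.asIdeal) < a →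
      IntMult.chi A (A ⧸ P.asIdeal) (A ⧸ PU) = 0 := by
    rintro P ⟨e, he⟩ hlt
    rw [Ideal.annihilator_quotient, Ideal.annihilator_quotient] at he
    obtain ⟨k, hk, hk'⟩ := hdim P
    rw [hk] at hlt
    have : k < a := by exact_mod_cast hlt
    have h := chi_stalk_zero f hδ hn (hpt P) hU (by omega) ⟨e, by rw [primeOf_point]; exact he⟩
    rwa [primeOf_point] at h
  refine ⟨fun i => (hPrim i).symm, ?_⟩
  have hd0 : Module.supportDim A (A ⧸ (PV ⊔ PW)) ≤ a := supportDim_le fun P hP => by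
    have hle := Module.annihilator_le_of_mem_support hP
    rw [Ideal.annihilator_quotient] at hle
    obtain ⟨k, hk, hk'⟩ := hdim P
    obtain ⟨h1, h2⟩ := sup_le_iff.1 hle
    have := hvw' _ (hpt P) (hgen hV P h1) (hgen hW P h2)
    rw [hk]; exact_mod_cast (by omega : k ≤ a)
  let T := (finite_support_top hd0).toFinset
  have hT : ∀ P, P ∈ T ↔ ringKrullDim (A ⧸ P.asIdeal) = a ∧ PV ⊔ PW ≤ P.asIdeal := fun P => by
    simp only [T, Set.Finite.mem_toFinset, Set.mem_setOf_eq, Module.mem_support_iff_of_finite,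
      Ideal.annihilator_quotient]
  have hdev : ∀ i, IntMult.chi A (A ⧸ PU) (M i) =
      ∑ P ∈ T, (lenAt P (M i) : ℤ) * IntMult.chi A (A ⧸ P.asIdeal) (A ⧸ PU) := fun i => by
    haveI := hfin i
    rw [H9Samuel.chi_comm, devissage (A ⧸ PU) a hzero (M i) (hPrim i) (hMd i)]
    refine finsum_mem_eq_sum_of_subset (s := {p : PrimeSpectrum A | ringKrullDim (A ⧸ p.asIdeal) = a}) _ ?_ ?_
    · rintro P ⟨hP, hne0⟩
      refine Finset.mem_coe.2 ((hT P).2 ⟨hP, hMsupp i P (Module.mem_support_iff.2 ?_)⟩)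
      by_contra hn'
      rw [not_nontrivial_iff_subsingleton] at hn'
      exact hne0 (by simp [lenAt, Module.length_eq_zero_iff.2 hn'])
    · exact fun P hP => ((hT P).1 hP).1
  let D := (maximalIdeal A).spanFinrank
  have hmult : ∀ P ∈ T, IntMult.interProd δ n (Set.indicator {ξV} 1) (Set.indicator {ξW} 1) (pt P) =
      ∑ i ∈ Finset.range (D + 1), (-1 : ℤ) ^ i * (lenAt P (M i) : ℤ) := by
    intro P hP
    obtain ⟨hPa, hPle⟩ := (hT P).1 hP
    obtain ⟨hPv, hPw⟩ := sup_le_iff.1 hPle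
    obtain ⟨k, hk, hk'⟩ := hdim P
    have hka : k = a := by rw [hk] at hPa; exact_mod_cast hPa
    rw [(interProd_points δ n ξV ξW (pt P)).2 (hgen hV P hPv) (hgen hW P hPw) (by omega), IntMult.mult, H9Samuel.chi_comm]
    letI := (X.presheaf.stalkSpecializes (hpt P)).hom.toAlgebra
    haveI : IsLocalization.AtPrime (X.presheaf.stalk (pt P)) P.asIdeal := by
      have h := H23.StalkPrimes.isLocalization_primeOf (hpt P)
      convert h using 1
      rw [primeOf_point]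
    have hpush : ∀ {y : X} (hy : y ⤳ ζ), IntMult.stalkIdeal (IntMult.ptIdeal y) (pt P) =
        ((primeOf hy).asIdeal).map (algebraMap A (X.presheaf.stalk (pt P))) := fun hy => by
      rw [primeOf_eq_ptIdeal hy f hδ, stalkIdeal_eq_stI, stalkIdeal_eq_stI]
      exact (Div21Lib.stI_generize _ (hpt P)).symm
    rw [hpush hV, hpush hW]
    exact chi_localization P PV PW
  have hsum : ∑ᶠ i : ℕ, (-1 : ℤ) ^ i * IntMult.chi A (A ⧸ PU) (M i) =
      ∑ P ∈ T, (∑ i ∈ Finset.range (D + 1), (-1 : ℤ) ^ i * (lenAt P (M i) : ℤ)) *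
        IntMult.chi A (A ⧸ P.asIdeal) (A ⧸ PU) := by
    rw [finsum_eq_sum_of_support_subset _ (s := Finset.range (D + 1))]
    · simp only [hdev, Finset.mul_sum, Finset.sum_mul, mul_assoc]
      exact Finset.sum_comm
    · intro i hi
      simp only [Finset.coe_range, Set.mem_Iio]
      by_contra hlt
      apply hi
      haveI : Subsingleton (M i) := subsingleton_tor_of_lt (A := A) (A ⧸ PV) (A ⧸ PW) (i := i) (by omega)
      show _ * IntMult.chi A (A ⧸ PU) (M i) = (0 : ℤ)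
      rw [hdev i, Finset.sum_eq_zero fun P _ => ?_, mul_zero]
      haveI : Subsingleton (LocalizedModule P.asIdeal.primeCompl (M i)) := ⟨fun a b => by
        induction a using LocalizedModule.induction_on with
        | _ m s =>
          induction b using LocalizedModule.induction_on with
          | _ m' s' => exact LocalizedModule.mk_eq.2 ⟨1, Subsingleton.elim _ _⟩⟩
      simp [lenAt, Module.length_eq_zero]
  show _ = ∑ᶠ i : ℕ, (-1 : ℤ) ^ i * IntMult.chi A (A ⧸ PU) (M i)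
  rw [hsum, IntMult.interProd]
  let Φ : (P : PrimeSpectrum A) → P ∈ T → {p : X × X // p.1 ⤳ ζ ∧ p.2 ⤳ ζ ∧ δ p.1 + δ p.2 - n = δ ζ} := fun P hP =>
    ⟨(ξU, pt P), hU, hpt P, by
      obtain ⟨k, hk, hk'⟩ := hdim P
      have hka : k = a := by
        have := ((hT P).1 hP).1
        rw [hk] at this; exact_mod_cast this
      show δ ξU + δ (pt P) - n = δ ζ
      omega⟩
  rw [finsum_eq_sum_of_support_subset _ (s := T.attach.image fun x => Φ x.1 x.2)]
  · rw [Finset.sum_image ?_, ← Finset.sum_attach T]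
    · refine Finset.sum_congr rfl fun x _ => ?_
      obtain ⟨P, hP⟩ := x
      show Set.indicator {ξU} 1 ξU * _ * IntMult.mult (IntMult.ptIdeal ξU) (IntMult.ptIdeal (pt P)) ζ = _
      rw [hmult P hP, IntMult.mult, ← primeOf_eq_ptIdeal hU f hδ, ← primeOf_eq_ptIdeal (hpt P) f hδ, primeOf_point,
        show Set.indicator ({ξU} : Set X) (1 : X → ℤ) ξU = 1 by simp, one_mul]
    · rintro ⟨x, hx⟩ _ ⟨y, hy⟩ _ hxy
      exact Subtype.ext ((X.fromSpecStalk ζ).isEmbedding.injective (congrArg (fun q => q.1.2) hxy))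
  · rintro ⟨⟨u, η⟩, hu, hη, hd⟩ hne0
    simp only [Function.mem_support, ne_eq, mul_eq_zero, not_or] at hne0
    obtain rfl : u = ξU := Set.eq_of_mem_singleton (Set.mem_of_indicator_ne_zero hne0.1.1)
    obtain ⟨h1, h2, h3⟩ := (interProd_points δ n ξV ξW η).1 hne0.1.2
    have e1 : pt (primeOf hη) = η := fromSpecStalk_primeOf hη
    have hx : primeOf hη ∈ T := by
      refine (hT _).2 ⟨?_, sup_le ?_ ?_⟩
      · obtain ⟨k, hk, hk'⟩ := hdim (primeOf hη)
        rw [e1] at hk'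
        rw [hk]
        exact_mod_cast (by omega : k = a)
      · exact (H23.StalkPrimes.primeOf_le_iff hη hV).2 h1
      · exact (H23.StalkPrimes.primeOf_le_iff hη hW).2 h2
    simp only [Finset.coe_image, Set.mem_image, Finset.mem_coe, Finset.mem_attach, true_and]
    exact ⟨⟨_, hx⟩, Subtype.ext (Prod.ext rfl e1)⟩

include hδ hn hVW hUVW in
theorem interProd_side {ζ : X} (hU : ξU ⤳ ζ) (hV : ξV ⤳ ζ) (hW : ξW ⤳ ζ)
    (hζ : δ ζ = δ ξU + δ ξV + δ ξW - 2 * n) :
    (∀ i, Primary (X.presheaf.stalk ζ) (X.presheaf.stalk ζ ⧸ (primeOf hU).asIdeal)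
      (DRing.Tor (X.presheaf.stalk ζ) i (X.presheaf.stalk ζ ⧸ (primeOf hV).asIdeal)
        (X.presheaf.stalk ζ ⧸ (primeOf hW).asIdeal))) ∧
    IntMult.interProd δ n (Set.indicator {ξU} 1)
      (IntMult.interProd δ n (Set.indicator {ξV} 1) (Set.indicator {ξW} 1)) ζ =
      ∑ᶠ i : ℕ, (-1 : ℤ) ^ i * IntMult.chi (X.presheaf.stalk ζ) (X.presheaf.stalk ζ ⧸ (primeOf hU).asIdeal)
        (DRing.Tor (X.presheaf.stalk ζ) i (X.presheaf.stalk ζ ⧸ (primeOf hV).asIdeal)
          (X.presheaf.stalk ζ ⧸ (primeOf hW).asIdeal)) :=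
  interProd_side_local f hδ hn hU hV hW hζ (fun y _ h1 h2 => hVW ξV ξW y (by simp) (by simp) h1 h2)
    fun y _ h1 h2 h3 => hUVW y h1 h2 h3

end Groth.Agent.H9Assoc
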